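import Mathlib
import Groth.Agent.UnibranchEtale.Neighbourhood
import Groth.Agent.Hensel.BranchCount
import Groth.Agent.Hensel.BranchCountStrict
import Groth.Agent.Hensel.BranchSum
import Groth.Agent.Hensel.BranchFlat

/-!
Branches are seen on étale neighbourhoods: algebra.
-/

set_option autoImplicit false
set_option linter.style.haveILetI false

universe u

open IsLocalRing

namespace Groth.Agent.BranchSup

/-- Contraction along a flat map of a prime minimal over an extended ideal. -/
theorem comap_mem_minimalPrimes_map {C S : Type u} [CommRing C] [CommRing S] [Algebra C S] [Module.Flat C S]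
    {J : Ideal C} {P : Ideal S} (hP : P ∈ (J.map (algebraMap C S)).minimalPrimes) :
    P.comap (algebraMap C S) ∈ J.minimalPrimes := by
  haveI := hP.1.1
  refine ⟨⟨Ideal.IsPrime.comap _, Ideal.map_le_iff_le_comap.mp hP.1.2⟩, fun r hr hle => ?_⟩
  haveI := hr.1
  haveI : P.LiesOver (P.comap (algebraMap C S)) := ⟨rfl⟩
  obtain ⟨Q, hQP, hQ, hQr⟩ := Ideal.exists_ideal_le_liesOver_of_le (S := S) P (q := P.comap (algebraMap C S)) hle
  rw [hQr.over]
  refine Ideal.comap_mono (hP.2 ⟨hQ, Ideal.map_le_iff_le_comap.mpr ?_⟩ hQP)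
  exact hr.2.trans hQr.over.le

/-- Minimal primes of an ideal below `q` are contracted from a flat local algebra centred at `q`. -/
theorem encard_minimal_le {C S : Type u} [CommRing C] [CommRing S] [IsLocalRing S] [Algebra C S] [Module.Flat C S]
    (q : Ideal C) (hq : (maximalIdeal S).comap (algebraMap C S) = q) (J : Ideal C) :
    {r : Ideal C | r ∈ J.minimalPrimes ∧ r ≤ q}.encard ≤ (J.map (algebraMap C S)).minimalPrimes.encard := by
  have key : {r : Ideal C | r ∈ J.minimalPrimes ∧ r ≤ q} ⊆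
      (fun P => Ideal.comap (algebraMap C S) P) '' (J.map (algebraMap C S)).minimalPrimes := by
    rintro r ⟨hr, hrq⟩
    haveI := hr.1.1
    haveI : q.IsPrime := hq ▸ Ideal.IsPrime.comap _
    haveI : (maximalIdeal S).LiesOver q := ⟨hq.symm⟩
    obtain ⟨Q, -, hQ, hQr⟩ := Ideal.exists_ideal_le_liesOver_of_le (S := S) (maximalIdeal S) (q := q) hrq
    haveI := hQ
    obtain ⟨P, hP, hPQ⟩ := Ideal.exists_minimalPrimes_le (I := J.map (algebraMap C S)) (J := Q)
      (Ideal.map_le_iff_le_comap.mpr (hr.1.2.trans hQr.over.le))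
    have hle : P.comap (algebraMap C S) ≤ r := (Ideal.comap_mono hPQ).trans hQr.over.ge
    exact ⟨P, hP, le_antisymm hle (hr.2 ⟨(haveI := hP.1.1; Ideal.IsPrime.comap _),
      Ideal.map_le_iff_le_comap.mp hP.1.2⟩ hle)⟩
  exact (Set.encard_le_encard key).trans (Set.encard_image_le _ _)

variable {A : Type u} [CommRing A] (p : Ideal A) [p.IsPrime] (R : Type u) [CommRing R] [IsLocalRing R]
  [Algebra A R] [IsLocalization.AtPrime R p]

/-- Finitely many branches are separated on one étale neighbourhood. -/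
theorem exists_nhd_many (K : Type u) [Field K] [Algebra R K] [Algebra A K]
    [IsScalarTower A R K] (S : Type u) [CommRing S] [IsLocalRing S] [Algebra R S] [Module.Flat R S]
    (π : S →ₐ[R] K) (hπ : ∀ z, π z = 0 ↔ z ∈ maximalIdeal S) (ι : Hensel.EnvTop R K →ₐ[R] S)
    (hι : ∀ x, π (ι x) = Hensel.envEv R K x) (hloc : ∀ z, ∃ x t, IsUnit (ι t) ∧ z * ι t = ι x)
    (hmax : (maximalIdeal S).comap (algebraMap R S) = maximalIdeal R) (I : Ideal A)
    (F : Finset (Ideal S)) (hF : ∀ P ∈ F, P ∈ ((I.map (algebraMap A R)).map (algebraMap R S)).minimalPrimes) :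
    ∃ (C : Type u) (_ : CommRing C) (_ : Algebra A C) (_ : Algebra.Etale A C) (q : Ideal C) (_ : q.IsPrime),
      q.comap (algebraMap A C) = p ∧ (∃ θ : C →ₐ[A] K, RingHom.ker θ.toRingHom = q) ∧
      (F.card : ℕ∞) ≤ {r : Ideal C | r ∈ (I.map (algebraMap A C)).minimalPrimes ∧ r ≤ q}.encard := by
  classical
  let z₀ : F × F → S := fun ij =>
    if h : ∃ a, a ∈ ij.1.1 ∧ a ∉ ij.2.1 then h.choose else 0
  let e := Fintype.equivFin (F × F)
  obtain ⟨P, T, _, _, _, ψ, χ, h1, h2, hinj, hz⟩ :=
    Hensel.exists_local_stage R K π hπ ι hι hloc fun k => z₀ (e.symm k)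
  obtain ⟨C, _, _, _, _, _, α, hα⟩ := UnibranchEtale.exists_spread p R P
  letI : Algebra A S := ((algebraMap R S).comp (algebraMap A R)).toAlgebra
  haveI : IsScalarTower A R S := IsScalarTower.of_algebraMap_eq fun _ => rfl
  let φ : C →ₐ[A] S := ((χ.comp ψ).restrictScalars A).comp α
  haveI : Module.Flat A R := IsLocalization.flat R p.primeCompl
  haveI : Module.Flat A S := Module.Flat.trans A R S
  letI : Algebra C S := φ.toRingHom.toAlgebra
  haveI : IsScalarTower A C S := IsScalarTower.of_algebraMap_eq fun r => (φ.commutes r).symm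
  haveI : Module.Flat C S := UnramLib.flat_of_formallyUnramified A C S
  have hmap : (I.map (algebraMap A C)).map (algebraMap C S) = (I.map (algebraMap A R)).map (algebraMap R S) := by
    rw [Ideal.map_map, Ideal.map_map, ← IsScalarTower.algebraMap_eq A C S, ← IsScalarTower.algebraMap_eq A R S]
  refine ⟨C, inferInstance, inferInstance, inferInstance, (maximalIdeal S).comap φ.toRingHom,
    Ideal.IsPrime.comap _, ?_, ⟨(π.restrictScalars A).comp φ, ?_⟩, ?_⟩
  · rw [Ideal.comap_comap, show φ.toRingHom.comp (algebraMap A C) = algebraMap A S from φ.comp_algebraMap,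
      IsScalarTower.algebraMap_eq A R S, ← Ideal.comap_comap, hmax]
    exact IsLocalization.AtPrime.comap_maximalIdeal R p
  · ext x
    rw [RingHom.mem_ker, Ideal.mem_comap, ← hπ]
    rfl
  rw [← Set.encard_coe_eq_coe_finsetCard]
  refine Set.encard_le_encard_of_injOn (f := fun Q : Ideal S => Q.comap (algebraMap C S)) (fun Q hQ => ?_) ?_
  · exact ⟨comap_mem_minimalPrimes_map (hmap ▸ hF Q hQ), Ideal.comap_mono (le_maximalIdeal (hF Q hQ).1.1.ne_top)⟩
  intro Q₁ hQ₁ Q₂ hQ₂ heq
  by_contra hne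
  haveI := (hF Q₂ hQ₂).1.1
  have hex : ∃ a, a ∈ Q₁ ∧ a ∉ Q₂ := by
    by_contra h
    push Not at h
    exact hne (le_antisymm h ((hF Q₂ hQ₂).2 (hF Q₁ hQ₁).1 h))
  set a := z₀ (⟨Q₁, hQ₁⟩, ⟨Q₂, hQ₂⟩) with ha
  have haQ : a ∈ Q₁ ∧ a ∉ Q₂ := by
    simp only [ha, z₀]
    rw [dif_pos hex]
    exact hex.choose_spec
  obtain ⟨y, hy⟩ := hz (e (⟨Q₁, hQ₁⟩, ⟨Q₂, hQ₂⟩))
  rw [Equiv.symm_apply_apply, ← ha] at hy
  obtain ⟨b, c, hc, hbc⟩ := h1 y
  have hb : a * χ (ψ c) = χ (ψ b) := by rw [← hy, ← map_mul, hbc]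
  obtain ⟨c₀, d, hd, hc₀⟩ := hα b
  have hu : IsUnit (algebraMap A S d) := by
    rw [IsScalarTower.algebraMap_apply A R S]
    exact (IsLocalization.map_units R (⟨d, hd⟩ : p.primeCompl)).map _
  have hcS : IsUnit (χ (ψ c)) := hc.map χ
  have hφc : φ c₀ = a * χ (ψ c) * algebraMap A S d := by
    change χ (ψ (α c₀)) = _
    rw [← hc₀, map_mul, map_mul, ← hb, IsScalarTower.algebraMap_apply A R P.Ring, AlgHom.commutes,
      AlgHom.commutes, ← IsScalarTower.algebraMap_apply A R S]
  have heq' : Q₁.comap (algebraMap C S) = Q₂.comap (algebraMap C S) := heq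
  have hm : c₀ ∈ Q₁.comap (algebraMap C S) := by
    rw [Ideal.mem_comap]
    change φ c₀ ∈ Q₁
    rw [hφc]
    exact Q₁.mul_mem_right _ (Q₁.mul_mem_right _ haQ.1)
  rw [heq', Ideal.mem_comap] at hm
  change φ c₀ ∈ Q₂ at hm
  rw [hφc, mul_assoc, Ideal.mul_unit_mem_iff_mem _ (hcS.mul hu)] at hm
  exact haQ.2 hm



/-- Minimal primes of a quotient. -/
theorem encard_minimalPrimes_quotient {T : Type u} [CommRing T] (I : Ideal T) :
    (minimalPrimes (T ⧸ I)).encard = I.minimalPrimes.encard := by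
  rw [Ideal.minimalPrimes_eq_comap (I := I)]
  exact (Ideal.comap_injective_of_surjective _ Ideal.Quotient.mk_surjective).encard_image _ |>.symm

section Count

variable {T B : Type u} [CommRing T] [IsLocalRing T] [CommRing B] [IsLocalRing B]
  (S : Type u) [CommRing S] [IsLocalRing S] [Algebra T S] [IsLocalHom (algebraMap T S)]

theorem numBranches_of_surjective [_root_.Hensel.IsHenselization T S] (φ : T →+* B) (hφ : Function.Surjective φ) :
    Brnch.numBranches B = ((RingHom.ker φ).map (algebraMap T S)).minimalPrimes.encard := by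
  obtain ⟨h1, h2, h3⟩ := Hensel.quotient_local_setup T S (RingHom.ker φ) (RingHom.ker_ne_top φ)
  haveI := h1
  haveI := h2
  haveI := h3
  haveI := Hensel.isHenselization_quotient (A := T) (S := S) (RingHom.ker φ)
  let e := RingHom.quotientKerEquivOfSurjective hφ
  haveI : IsLocalHom e.toRingHom := ⟨fun x hx => by simpa using hx.map e.symm⟩
  haveI : IsLocalHom e.symm.toRingHom := ⟨fun x hx => by simpa using hx.map e⟩
  have he : Brnch.numBranches B = Brnch.numBranches (T ⧸ RingHom.ker φ) :=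
    le_antisymm (Hensel.numBranches_le_of_flat e.symm.toRingHom (RingHom.Flat.of_bijective e.symm.bijective))
      (Hensel.numBranches_le_of_flat e.toRingHom (RingHom.Flat.of_bijective e.bijective))
  rw [he, ← Hensel.card_minimalPrimes_henselization (A := T ⧸ RingHom.ker φ)
    (S := S ⧸ (RingHom.ker φ).map (algebraMap T S)), ← encard_minimalPrimes_quotient]
  rfl

theorem numGeomBranches_of_surjective [_root_.Hensel.IsStrictHenselization T S] (φ : T →+* B)
    (hφ : Function.Surjective φ) :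
    Brnch.numGeomBranches B = ((RingHom.ker φ).map (algebraMap T S)).minimalPrimes.encard := by
  obtain ⟨h1, h2, h3⟩ := Hensel.quotient_local_setup T S (RingHom.ker φ) (RingHom.ker_ne_top φ)
  haveI := h1
  haveI := h2
  haveI := h3
  haveI := Hensel.isStrictHenselization_quotient (A := T) (S := S) (RingHom.ker φ)
  let e := RingHom.quotientKerEquivOfSurjective hφ
  haveI : IsLocalHom e.toRingHom := ⟨fun x hx => by simpa using hx.map e.symm⟩
  haveI : IsLocalHom e.symm.toRingHom := ⟨fun x hx => by simpa using hx.map e⟩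
  have he : Brnch.numGeomBranches B = Brnch.numGeomBranches (T ⧸ RingHom.ker φ) :=
    le_antisymm (Hensel.numGeomBranches_le_of_flat e.symm.toRingHom (RingHom.Flat.of_bijective e.symm.bijective))
      (Hensel.numGeomBranches_le_of_flat e.toRingHom (RingHom.Flat.of_bijective e.bijective))
  rw [he, ← Hensel.card_minimalPrimes_strictHenselization (A := T ⧸ RingHom.ker φ)
    (S := S ⧸ (RingHom.ker φ).map (algebraMap T S)), ← encard_minimalPrimes_quotient]
  rfl

end Count

end Groth.Agent.BranchSup
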