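import Mathlib
import Groth.Agent.BranchSup.Algebra
import Groth.Agent.UnibranchEtale.Components
import Groth.Agent.UnibranchEtale.NbhdScheme

/-!
Branches are seen on étale neighbourhoods: schemes.
-/

set_option autoImplicit false
set_option linter.style.haveILetI false

universe u

open CategoryTheory AlgebraicGeometry IsLocalRing

namespace Groth.Agent.BranchSup

variable {X : Scheme.{u}}

/-- The components through a point are the minimal primes of its local ring. -/
theorem components_encard (x : X) :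
    {Z : Set ↑X | Z ∈ irreducibleComponents ↑X ∧ x ∈ Z}.encard =
      (minimalPrimes (X.presheaf.stalk x)).encard := by
  let pt : minimalPrimes (X.presheaf.stalk x) → X := fun P =>
    X.fromSpecStalk x (⟨P.1, P.2.1.1⟩ : PrimeSpectrum (X.presheaf.stalk x))
  have hsp : ∀ P, pt P ⤳ x := fun P => by
    have : pt P ∈ Set.range (X.fromSpecStalk x) := ⟨_, rfl⟩
    rwa [Scheme.range_fromSpecStalk] at this
  have hmax : ∀ P, ∀ z : X, z ⤳ pt P → z = pt P := fun P z hz => by
    obtain ⟨c, hc⟩ : z ∈ Set.range (X.fromSpecStalk x) := by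
      rw [Scheme.range_fromSpecStalk]; exact hz.trans (hsp P)
    subst hc
    have h1 : c ⤳ (⟨P.1, P.2.1.1⟩ : PrimeSpectrum (X.presheaf.stalk x)) :=
      (X.fromSpecStalk x).isEmbedding.specializes_iff.mp hz
    have h2 : c.asIdeal ≤ P.1 := (PrimeSpectrum.le_iff_specializes c ⟨P.1, P.2.1.1⟩).2 h1
    exact congrArg (X.fromSpecStalk x) (PrimeSpectrum.ext (le_antisymm h2 (P.2.2 ⟨c.isPrime, bot_le⟩ h2)))
  let F : minimalPrimes (X.presheaf.stalk x) → {Z : Set ↑X | Z ∈ irreducibleComponents ↑X ∧ x ∈ Z} :=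
    fun P => ⟨closure {pt P}, UnibranchEtale.mem_components_of_maximal (hmax P), (hsp P).mem_closure⟩
  refine (ENat.card_congr (Equiv.ofBijective F ⟨fun P Q h => ?_, fun Z => ?_⟩)).symm
  · have h1 : IsGenericPoint (pt P) (closure {pt Q}) := congrArg Subtype.val h
    have h2 := (X.fromSpecStalk x).isEmbedding.injective (h1.eq (isGenericPoint_closure (x := pt Q)))
    exact Subtype.ext (congrArg PrimeSpectrum.asIdeal h2)
  · obtain ⟨Z, hZ, hxZ⟩ := Z
    obtain ⟨η, hη, hm⟩ := UnibranchEtale.exists_generic hZ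
    obtain ⟨c, hc⟩ : η ∈ Set.range (X.fromSpecStalk x) := by
      rw [Scheme.range_fromSpecStalk]; exact hη.specializes hxZ
    haveI := c.isPrime
    have hmin : c.asIdeal ∈ minimalPrimes (X.presheaf.stalk x) := by
      refine ⟨⟨c.isPrime, bot_le⟩, fun Q hQ hle => ?_⟩
      let d : Spec (X.presheaf.stalk x) := (⟨Q, hQ.1⟩ : PrimeSpectrum (X.presheaf.stalk x))
      have h1 : d ⤳ c := (PrimeSpectrum.le_iff_specializes _ _).1 hle
      have h2 : X.fromSpecStalk x d = η := hm _ (hc ▸ h1.map (X.fromSpecStalk x).continuous)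
      exact (congrArg PrimeSpectrum.asIdeal
        ((X.fromSpecStalk x).isEmbedding.injective (h2.trans hc.symm))).ge
    refine ⟨⟨c.asIdeal, hmin⟩, Subtype.ext ?_⟩
    change closure {X.fromSpecStalk x c} = Z
    rw [hc]
    exact hη.def

/-- A neighbourhood has no more components than the henselian ring sees branches. -/
theorem count_le_of_nbhd {U : Scheme.{u}} (g : U ⟶ X) [Etale g] (u : U)
    (S : Type u) [CommRing S] [HenselianLocalRing S]
    [Algebra (X.presheaf.stalk (g u)) S] [Module.Flat (X.presheaf.stalk (g u)) S]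
    (τ : U.residueField u →+* ResidueField S)
    (hτ : ∀ z, τ (g.residueFieldMap u (X.residue (g u) z)) =
      residue S (algebraMap (X.presheaf.stalk (g u)) S z))
    (J : Ideal (X.presheaf.stalk (g u))) :
    (J.map (g.stalkMap u).hom).minimalPrimes.encard ≤
      (J.map (algebraMap (X.presheaf.stalk (g u)) S)).minimalPrimes.encard := by
  obtain ⟨V, hV, W, hW, huW, -, e⟩ := UnibranchEtale.exists_affine_chart g u ⊤ trivial
  have hE : (g.appLE V W e).hom.Etale := g.etale_appLE hV hW e
  letI := (g.appLE V W e).hom.toAlgebra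
  haveI : Algebra.Etale Γ(X, V) Γ(U, W) := hE
  letI := TopCat.Presheaf.algebra_section_stalk X.presheaf (⟨g u, e huW⟩ : V)
  haveI := hV.isLocalization_stalk ⟨g u, e huW⟩
  letI := TopCat.Presheaf.algebra_section_stalk U.presheaf (⟨u, huW⟩ : W)
  haveI := hW.isLocalization_stalk ⟨u, huW⟩
  letI : Algebra Γ(X, V) S := ((algebraMap (X.presheaf.stalk (g u)) S).comp (algebraMap Γ(X, V) _)).toAlgebra
  haveI : IsScalarTower Γ(X, V) (X.presheaf.stalk (g u)) S := IsScalarTower.of_algebraMap_eq fun _ => rfl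
  haveI : Module.Flat Γ(X, V) (X.presheaf.stalk (g u)) :=
    IsLocalization.flat (X.presheaf.stalk (g u)) (hV.primeIdealOf ⟨g u, e huW⟩).asIdeal.primeCompl
  haveI : Module.Flat Γ(X, V) S := Module.Flat.trans Γ(X, V) (X.presheaf.stalk (g u)) S
  have hgerm : ∀ r, g.stalkMap u (X.presheaf.germ V (g u) (e huW) r) =
      U.presheaf.germ W u huW (g.appLE V W e r) := fun r => by
    rw [Scheme.Hom.germ_stalkMap_apply, Scheme.Hom.appLE]
    exact (TopCat.Presheaf.germ_res_apply U.presheaf (homOfLE e) u huW _).symm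
  let ψ₀ : Γ(U, W) →+* ResidueField S :=
    τ.comp ((U.residue u).hom.comp (algebraMap Γ(U, W) (U.presheaf.stalk u)))
  let ψ : Γ(U, W) →ₐ[Γ(X, V)] ResidueField S :=
    { ψ₀ with
      commutes' := fun r => by
        change τ (U.residue u (U.presheaf.germ W u huW (g.appLE V W e r))) = _
        rw [← hgerm]
        refine Eq.trans ?_ (hτ (X.presheaf.germ V (g u) (e huW) r))
        exact congrArg τ (ConcreteCategory.congr_hom (Scheme.residue_residueFieldMap g u) _).symm }
  let π : S →ₐ[Γ(X, V)] ResidueField S := IsScalarTower.toAlgHom Γ(X, V) S (ResidueField S)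
  have hker : RingHom.ker π.toRingHom = maximalIdeal S := ker_residue (R := S)
  obtain ⟨φ, hφ, -⟩ := Hensel.existsUnique_algHom_of_quotient π residue_surjective
    (hker ▸ inferInstance) ψ
  let q := (hW.primeIdealOf ⟨u, huW⟩).asIdeal
  have hq : ∀ c, c ∈ q ↔ φ c ∈ maximalIdeal S := fun c => by
    rw [← residue_eq_zero_iff (φ c)]
    have : residue S (φ c) = ψ c := AlgHom.congr_fun hφ c
    rw [this]
    change c ∈ q ↔ τ (residue (U.presheaf.stalk u) (algebraMap Γ(U, W) (U.presheaf.stalk u) c)) = 0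
    exact ((map_eq_zero τ).trans ((residue_eq_zero_iff _).trans
      (IsLocalization.AtPrime.to_map_mem_maximal_iff (U.presheaf.stalk u) q c))).symm
  letI : Algebra Γ(U, W) S := φ.toRingHom.toAlgebra
  haveI : IsScalarTower Γ(X, V) Γ(U, W) S := IsScalarTower.of_algebraMap_eq fun r => (φ.commutes r).symm
  haveI : Module.Flat Γ(U, W) S := UnramLib.flat_of_formallyUnramified Γ(X, V) Γ(U, W) S
  have hu : ∀ y : q.primeCompl, IsUnit (φ y) := fun y => notMem_maximalIdeal.mp fun h => y.2 ((hq _).2 h)
  let l : U.presheaf.stalk u →+* S := IsLocalization.lift (M := q.primeCompl) (g := φ.toRingHom) hu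
  have hl : ∀ c, l (algebraMap Γ(U, W) (U.presheaf.stalk u) c) = φ c := fun c => IsLocalization.lift_eq _ c
  letI : Algebra (U.presheaf.stalk u) S := l.toAlgebra
  haveI : IsScalarTower Γ(U, W) (U.presheaf.stalk u) S := IsScalarTower.of_algebraMap_eq fun c => (hl c).symm
  haveI : Module.Flat (U.presheaf.stalk u) S :=
    (Module.flat_iff_of_isLocalization (U.presheaf.stalk u) q.primeCompl S).2 inferInstance
  have hm : (maximalIdeal S).comap (algebraMap (U.presheaf.stalk u) S) = maximalIdeal (U.presheaf.stalk u) := by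
    haveI : ((maximalIdeal S).comap (algebraMap (U.presheaf.stalk u) S)).IsPrime := Ideal.IsPrime.comap _
    rw [← IsLocalization.map_under q.primeCompl (U.presheaf.stalk u)
      ((maximalIdeal S).comap (algebraMap (U.presheaf.stalk u) S))]
    refine Eq.trans ?_ (IsLocalization.AtPrime.map_eq_maximalIdeal q (U.presheaf.stalk u))
    congr 1
    ext c
    change l (algebraMap Γ(U, W) (U.presheaf.stalk u) c) ∈ maximalIdeal S ↔ c ∈ q
    rw [hl]
    exact (hq c).symm
  have hcomp : (algebraMap (U.presheaf.stalk u) S).comp (g.stalkMap u).hom =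
      algebraMap (X.presheaf.stalk (g u)) S := by
    refine IsLocalization.ringHom_ext (hV.primeIdealOf ⟨g u, e huW⟩).asIdeal.primeCompl (RingHom.ext fun r => ?_)
    change l (g.stalkMap u (X.presheaf.germ V (g u) (e huW) r)) = _
    rw [hgerm]
    exact (hl _).trans (φ.commutes r)
  calc (J.map (g.stalkMap u).hom).minimalPrimes.encard
      ≤ {r | r ∈ (J.map (g.stalkMap u).hom).minimalPrimes ∧ r ≤ maximalIdeal _}.encard :=
        Set.encard_le_encard fun r hr => ⟨hr, le_maximalIdeal hr.1.1.ne_top⟩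
    _ ≤ ((J.map (g.stalkMap u).hom).map (algebraMap (U.presheaf.stalk u) S)).minimalPrimes.encard :=
        encard_minimal_le _ hm _
    _ = _ := by rw [Ideal.map_map, hcomp]

theorem comap_germ_congr (J : ∀ y : X, Ideal (X.presheaf.stalk y)) {V : X.Opens} {x y : X} (h : y = x)
    (hy : y ∈ V) (hx : x ∈ V) :
    (J y).comap (X.presheaf.germ V y hy).hom = (J x).comap (X.presheaf.germ V x hx).hom := by
  subst h; rfl

/-- Finitely many branches appear as components on a neighbourhood. -/
theorem exists_nbhd_count (x : X) (K : Type u) [Field K] [Algebra (X.presheaf.stalk x) K]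
    [Algebra (ResidueField (X.presheaf.stalk x)) K]
    [IsScalarTower (X.presheaf.stalk x) (ResidueField (X.presheaf.stalk x)) K]
    [Algebra.IsSeparable (ResidueField (X.presheaf.stalk x)) K]
    (J : ∀ y : X, Ideal (X.presheaf.stalk y)) (F : Finset (Ideal (Hensel.Env (X.presheaf.stalk x) K)))
    (hF : ∀ P ∈ F, P ∈ ((J x).map
      (algebraMap (X.presheaf.stalk x) (Hensel.Env (X.presheaf.stalk x) K))).minimalPrimes) :
    ∃ (U : Scheme.{u}) (g : U ⟶ X) (u : U), Etale g ∧ g u = x ∧
      (Function.Bijective (algebraMap (ResidueField (X.presheaf.stalk x)) K) →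
        Function.Bijective (g.residueFieldMap u)) ∧
      (F.card : ℕ∞) ≤ ((J (g u)).map (g.stalkMap u).hom).minimalPrimes.encard := by
  obtain ⟨V, hV, hxV, -⟩ := exists_isAffineOpen_mem_and_subset (U := ⊤) (x := x) trivial
  letI := TopCat.Presheaf.algebra_section_stalk X.presheaf (⟨x, hxV⟩ : V)
  haveI := hV.isLocalization_stalk ⟨x, hxV⟩
  letI : Algebra Γ(X, V) K := ((algebraMap (X.presheaf.stalk x) K).comp (algebraMap Γ(X, V) _)).toAlgebra
  haveI : IsScalarTower Γ(X, V) (X.presheaf.stalk x) K := IsScalarTower.of_algebraMap_eq fun _ => rfl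
  haveI := Hensel.flat_env (X.presheaf.stalk x) K
  haveI : IsLocalHom (algebraMap (X.presheaf.stalk x) (Hensel.Env (X.presheaf.stalk x) K)) :=
    (Hensel.exists_residueEquiv_env (X.presheaf.stalk x) K).1
  let I : Ideal Γ(X, V) := (J x).comap (algebraMap Γ(X, V) (X.presheaf.stalk x))
  have hI : I.map (algebraMap Γ(X, V) (X.presheaf.stalk x)) = J x :=
    IsLocalization.map_under (hV.primeIdealOf ⟨x, hxV⟩).asIdeal.primeCompl _ _
  obtain ⟨C, _, _, _, q, _, hq, ⟨θ, hθ⟩, hcard⟩ :=
    exists_nhd_many (hV.primeIdealOf ⟨x, hxV⟩).asIdeal (X.presheaf.stalk x) K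
      (Hensel.Env (X.presheaf.stalk x) K) (Hensel.envRes (X.presheaf.stalk x) K)
      (Hensel.envRes_eq_zero_iff (X.presheaf.stalk x) K)
      (IsScalarTower.toAlgHom (X.presheaf.stalk x) (Hensel.EnvTop (X.presheaf.stalk x) K) _)
      (Hensel.envRes_algebraMap (X.presheaf.stalk x) K) (Hensel.env_hloc (X.presheaf.stalk x) K)
      (maximalIdeal_comap _) I F (fun P hP => by rw [hI]; exact hF P hP)
  let a : Γ(X, V) ⟶ CommRingCat.of C := CommRingCat.ofHom (algebraMap Γ(X, V) C)
  haveI : Etale (Spec.map a) :=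
    (HasRingHomProperty.Spec_iff (P := @Etale)).2 (RingHom.etale_algebraMap.2 inferInstance)
  let g : Spec (CommRingCat.of C) ⟶ X := Spec.map a ≫ hV.fromSpec
  let u : Spec (CommRingCat.of C) := (⟨q, inferInstance⟩ : PrimeSpectrum C)
  have hu : g u = x := by
    have h : Spec.map a u = hV.primeIdealOf ⟨x, hxV⟩ := PrimeSpectrum.ext hq
    rw [Scheme.Hom.comp_apply, h]
    exact hV.fromSpec_primeIdealOf _
  refine ⟨Spec (CommRingCat.of C), g, u, inferInstance, hu, fun hb => ?_, hcard.trans ?_⟩
  · let e₀ := RingEquiv.ofBijective (algebraMap (ResidueField (X.presheaf.stalk x)) K) hb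
    let θ₀ : C →+* X.residueField x := e₀.symm.toRingHom.comp θ.toRingHom
    have hcomp : θ₀.comp (algebraMap Γ(X, V) C) =
        (residue (X.presheaf.stalk x)).comp (algebraMap Γ(X, V) (X.presheaf.stalk x)) := by
      refine RingHom.ext fun r => e₀.injective ?_
      change e₀ (e₀.symm (θ (algebraMap Γ(X, V) C r))) = _
      rw [RingEquiv.apply_symm_apply, θ.commutes, IsScalarTower.algebraMap_apply Γ(X, V) (X.presheaf.stalk x) K,
        IsScalarTower.algebraMap_apply (X.presheaf.stalk x) (ResidueField (X.presheaf.stalk x)) K]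
      rfl
    refine UnibranchEtale.residueFieldMap_bijective_of_lift g x (Spec.map (CommRingCat.ofHom θ₀)) ?_
      (⟨⊥, Ideal.isPrime_bot⟩ : PrimeSpectrum (X.residueField x)) _ ?_
    · have h5 : Spec.map (CommRingCat.ofHom θ₀) ≫ Spec.map a =
          Spec.map (X.residue x) ≫ Spec.map (X.presheaf.germ V x hxV) :=
        ((Spec.map_comp a (CommRingCat.ofHom θ₀)).symm.trans (congrArg Spec.map
          (CommRingCat.hom_ext hcomp : a ≫ CommRingCat.ofHom θ₀ = X.presheaf.germ V x hxV ≫ X.residue x))).trans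
          (Spec.map_comp (X.presheaf.germ V x hxV) (X.residue x))
      refine (Category.assoc _ _ _).symm.trans ?_
      refine (congrArg (fun k => k ≫ hV.fromSpec) h5).trans ?_
      simp only [Category.assoc, Scheme.fromSpecResidueField, ← hV.fromSpecStalk_eq_fromSpecStalk hxV]
      rfl
    · refine PrimeSpectrum.ext ?_
      change RingHom.ker θ₀ = q
      rw [← hθ]
      exact RingHom.ker_comp_of_injective _ e₀.symm.injective
  -- the local ring at `u`
  let W : (Spec (CommRingCat.of C)).Opens := ⊤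
  have hW : IsAffineOpen W := isAffineOpen_top _
  have hxV' : g u ∈ V := hu ▸ hxV
  have e : W ≤ g ⁻¹ᵁ V := fun z _ => by
    change (Spec.map a ≫ hV.fromSpec) z ∈ V
    have := Set.mem_range_self (f := hV.fromSpec) (Spec.map a z)
    rw [hV.range_fromSpec] at this
    exact this
  let σ : CommRingCat.of C ⟶ Γ(Spec (CommRingCat.of C), W) := (Scheme.ΓSpecIso (CommRingCat.of C)).inv
  have hle : g.appLE V W e = a ≫ σ := by
    have h1 := IsAffineOpen.SpecMap_appLE_fromSpec g hV hW e
    have h2 : hW.fromSpec = Spec.map σ := by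
      simp only [W, σ, IsAffineOpen.fromSpec_top, Scheme.isoSpec_Spec_inv]
    rw [h2, ← Category.assoc, cancel_mono, ← Spec.map_comp] at h1
    exact Spec.map_injective h1
  have hgerm : (g.stalkMap u).hom.comp (X.presheaf.germ V (g u) hxV').hom =
      ((Spec (CommRingCat.of C)).presheaf.germ W u trivial).hom.comp (σ.hom.comp a.hom) := by
    refine RingHom.ext fun r => ?_
    change g.stalkMap u (X.presheaf.germ V (g u) hxV' r) = _
    rw [Scheme.Hom.germ_stalkMap_apply]
    have h3 := TopCat.Presheaf.germ_res_apply (Spec (CommRingCat.of C)).presheaf (homOfLE e) u (trivial : u ∈ W)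
      (g.app V r)
    refine h3.symm.trans ?_
    change (Spec (CommRingCat.of C)).presheaf.germ W u trivial (g.appLE V W e r) = _
    rw [hle]
    rfl
  letI := TopCat.Presheaf.algebra_section_stalk (Spec (CommRingCat.of C)).presheaf (⟨u, trivial⟩ : W)
  haveI := hW.isLocalization_stalk ⟨u, trivial⟩
  let M := (hW.primeIdealOf ⟨u, trivial⟩).asIdeal
  have hM : M.comap σ.hom = q := by
    have h2 : hW.fromSpec = Spec.map σ := by
      simp only [W, σ, IsAffineOpen.fromSpec_top, Scheme.isoSpec_Spec_inv]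
    have := hW.fromSpec_primeIdealOf ⟨u, trivial⟩
    rw [h2] at this
    exact congrArg PrimeSpectrum.asIdeal this
  let σe : C ≃+* Γ(Spec (CommRingCat.of C), W) := (Scheme.ΓSpecIso (CommRingCat.of C)).symm.commRingCatIsoToRingEquiv
  letI : Algebra Γ(X, V) Γ(Spec (CommRingCat.of C), W) := (σ.hom.comp a.hom).toAlgebra
  have hmap : (J (g u)).map (g.stalkMap u).hom =
      ((I.map (algebraMap Γ(X, V) C)).map (σe : C →+* Γ(Spec (CommRingCat.of C), W))).map
        (algebraMap Γ(Spec (CommRingCat.of C), W) ((Spec (CommRingCat.of C)).presheaf.stalk u)) := by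
    letI := TopCat.Presheaf.algebra_section_stalk X.presheaf (⟨g u, hxV'⟩ : V)
    haveI := hV.isLocalization_stalk ⟨g u, hxV'⟩
    have hI' : (J (g u)).comap (algebraMap Γ(X, V) (X.presheaf.stalk (g u))) = I :=
      comap_germ_congr J hu hxV' hxV
    rw [← IsLocalization.map_under (hV.primeIdealOf ⟨g u, hxV'⟩).asIdeal.primeCompl _ (J (g u))]
    change (Ideal.map _ ((J (g u)).comap (algebraMap Γ(X, V) (X.presheaf.stalk (g u))))).map _ = _
    rw [hI', Ideal.map_map, Ideal.map_map, Ideal.map_map]
    exact congrArg (fun f => Ideal.map f I) hgerm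
  rw [hmap, IsLocalization.minimalPrimes_map M.primeCompl]
  refine Set.encard_le_encard_of_injOn
    (f := fun r : Ideal C => (r.map (σe : C →+* Γ(Spec (CommRingCat.of C), W))).map
      (algebraMap Γ(Spec (CommRingCat.of C), W) ((Spec (CommRingCat.of C)).presheaf.stalk u))) (fun r hr => ?_) ?_
  · obtain ⟨hr, hrq⟩ := hr
    haveI := hr.1.1
    have hp : (r.map (σe : C →+* Γ(Spec (CommRingCat.of C), W))).IsPrime := Ideal.map_isPrime_of_equiv σe
    have hrM : r.map (σe : C →+* Γ(Spec (CommRingCat.of C), W)) ≤ M :=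
      Ideal.map_le_iff_le_comap.mpr (hrq.trans hM.ge)
    rw [Set.mem_preimage, IsLocalization.under_map_of_isPrime_disjoint M.primeCompl _ hp
      (Set.disjoint_left.mpr fun z hz hz' => hz (hrM hz')),
      Ideal.minimalPrimes_map_of_surjective (f := (σe : C →+* Γ(Spec (CommRingCat.of C), W))) σe.surjective]
    refine ⟨r, ?_, rfl⟩
    rwa [show RingHom.ker (σe : C →+* Γ(Spec (CommRingCat.of C), W)) = ⊥ from
      (RingHom.injective_iff_ker_eq_bot _).mp σe.injective, sup_bot_eq]
  · intro r₁ hr₁ r₂ hr₂ heq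
    have key : ∀ r : Ideal C, r.IsPrime → r ≤ q →
        ((r.map (σe : C →+* Γ(Spec (CommRingCat.of C), W))).map
          (algebraMap Γ(Spec (CommRingCat.of C), W) ((Spec (CommRingCat.of C)).presheaf.stalk u))).under
            Γ(Spec (CommRingCat.of C), W) = r.map (σe : C →+* Γ(Spec (CommRingCat.of C), W)) := fun r hr hrq =>
      haveI := hr
      IsLocalization.under_map_of_isPrime_disjoint M.primeCompl _ (Ideal.map_isPrime_of_equiv σe)
        (Set.disjoint_left.mpr fun z hz hz' => hz (Ideal.map_le_iff_le_comap.mpr (hrq.trans hM.ge) hz'))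
    have h := congrArg (Ideal.under Γ(Spec (CommRingCat.of C), W)) heq
    simp only at h
    rw [key r₁ hr₁.1.1.1 hr₁.2, key r₂ hr₂.1.1.1 hr₂.2] at h
    have h' := congrArg (Ideal.comap (σe : C →+* Γ(Spec (CommRingCat.of C), W))) h
    rwa [Ideal.comap_map_of_bijective (σe : C →+* Γ(Spec (CommRingCat.of C), W)) σe.bijective,
      Ideal.comap_map_of_bijective (σe : C →+* Γ(Spec (CommRingCat.of C), W)) σe.bijective] at h'

end Groth.Agent.BranchSup
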