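import Mathlib
import Groth.Prelude.Def_Hens2
import Groth.Agent.BranchSup.Scheme
import Groth.Agent.FibCrit.Stalk

/-!
Branch numbers as suprema over étale neighbourhoods.
-/

set_option autoImplicit false
set_option linter.style.haveILetI false

universe u

open CategoryTheory AlgebraicGeometry IsLocalRing

namespace Groth.Agent.BranchSup

variable {X : Scheme.{u}}

/-- The number of primes of the strict henselian envelope minimal over an ideal. -/
noncomputable def shMinimal (T : Type u) [CommRing T] [IsLocalRing T] (I : Ideal T) : ℕ∞ :=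
  (I.map (algebraMap T (Hensel.Env T (SeparableClosure (ResidueField T))))).minimalPrimes.encard

theorem strict_eq_iSup_aux (J : ∀ y : X, Ideal (X.presheaf.stalk y)) (x : X) (S : Type u) [CommRing S]
    [IsLocalRing S] [Algebra (X.presheaf.stalk x) S] [IsLocalHom (algebraMap (X.presheaf.stalk x) S)]
    [hS : _root_.Hensel.IsStrictHenselization (X.presheaf.stalk x) S]
    {U : Scheme.{u}} (g : U ⟶ X) [Etale g] (u : U) (hu : g u = x) :
    ((J (g u)).map (g.stalkMap u).hom).minimalPrimes.encard ≤
      ((J x).map (algebraMap (X.presheaf.stalk x) S)).minimalPrimes.encard := by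
  subst hu
  haveI : HenselianLocalRing S := hS.henselian
  haveI := hS.isSepClosure.sep_closed
  haveI := Hensel.strictHenselization_flat (X.presheaf.stalk (g u)) S
  letI : Algebra (X.residueField (g u)) (U.residueField u) := (g.residueFieldMap u).hom.toAlgebra
  haveI : Algebra.IsSeparable (X.residueField (g u)) (U.residueField u) := inferInstance
  letI : Algebra (X.residueField (g u)) (ResidueField S) :=
    (ResidueField.map (algebraMap (X.presheaf.stalk (g u)) S)).toAlgebra
  let τ : U.residueField u →ₐ[X.residueField (g u)] ResidueField S := IsSepClosed.lift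
  exact count_le_of_nbhd g u S τ.toRingHom (fun z => τ.commutes (X.residue (g u) z)) _

theorem henselization_eq_iSup_aux (J : ∀ y : X, Ideal (X.presheaf.stalk y)) (x : X) (S : Type u) [CommRing S]
    [IsLocalRing S] [Algebra (X.presheaf.stalk x) S] [IsLocalHom (algebraMap (X.presheaf.stalk x) S)]
    [hS : _root_.Hensel.IsHenselization (X.presheaf.stalk x) S]
    {U : Scheme.{u}} (g : U ⟶ X) [Etale g] (u : U) (hu : g u = x)
    (hres : Function.Bijective (g.residueFieldMap u)) :
    ((J (g u)).map (g.stalkMap u).hom).minimalPrimes.encard ≤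
      ((J x).map (algebraMap (X.presheaf.stalk x) S)).minimalPrimes.encard := by
  subst hu
  haveI : HenselianLocalRing S := hS.henselian
  haveI := Hensel.henselization_flat (X.presheaf.stalk (g u)) S
  let er := RingEquiv.ofBijective (g.residueFieldMap u).hom hres
  let τ : U.residueField u →+* ResidueField S :=
    (ResidueField.map (algebraMap (X.presheaf.stalk (g u)) S)).comp er.symm.toRingHom
  refine count_le_of_nbhd g u S τ (fun z => ?_) _
  change ResidueField.map _ (er.symm (er (X.residue (g u) z))) = _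
  rw [RingEquiv.symm_apply_apply]
  rfl

/-- Branches of the strict henselization are seen on étale neighbourhoods. -/
theorem geom_eq_iSup (J : ∀ y : X, Ideal (X.presheaf.stalk y)) (x : X) :
    shMinimal (X.presheaf.stalk x) (J x) =
    ⨆ (U : Scheme.{u}) (g : U ⟶ X) (u : U) (_ : Etale g ∧ g u = x),
      ((J (g u)).map (g.stalkMap u).hom).minimalPrimes.encard := by
  obtain ⟨hloc, hsh⟩ := Hensel.exists_strictHenselization (X.presheaf.stalk x)
  rw [shMinimal]
  refine le_antisymm (ENat.forall_natCast_le_iff_le.mp fun n hn => ?_)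
    (iSup_le fun U => iSup_le fun g => iSup_le fun u => iSup_le fun h =>
      @strict_eq_iSup_aux X J x _ _ _ _ hloc hsh U g h.1 u h.2)
  obtain ⟨T, hT, hTn⟩ := Set.exists_subset_encard_eq hn
  have hfin : T.Finite := Set.finite_of_encard_eq_coe hTn
  obtain ⟨U, g, u, h1, h2, -, h3⟩ := exists_nbhd_count x (SeparableClosure (ResidueField (X.presheaf.stalk x))) J
    hfin.toFinset fun P hP => hT (hfin.mem_toFinset.1 hP)
  rw [← Set.encard_coe_eq_coe_finsetCard, hfin.coe_toFinset, hTn] at h3
  exact h3.trans (le_iSup_of_le U (le_iSup_of_le g (le_iSup_of_le u (le_iSup_of_le ⟨h1, h2⟩ le_rfl))))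

/-- Branches of the henselization are seen on elementary étale neighbourhoods. -/
theorem hensel_eq_iSup (J : ∀ y : X, Ideal (X.presheaf.stalk y)) (x : X) :
    ((J x).map (algebraMap (X.presheaf.stalk x)
      (Hensel.Env (X.presheaf.stalk x) (ResidueField (X.presheaf.stalk x))))).minimalPrimes.encard =
    ⨆ (U : Scheme.{u}) (g : U ⟶ X) (u : U) (_ : Hens2.IsEtaleNbhd g u x),
      ((J (g u)).map (g.stalkMap u).hom).minimalPrimes.encard := by
  obtain ⟨hloc, hsh⟩ := Hensel.exists_henselization (X.presheaf.stalk x)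
  refine le_antisymm (ENat.forall_natCast_le_iff_le.mp fun n hn => ?_)
    (iSup_le fun U => iSup_le fun g => iSup_le fun u => iSup_le fun h =>
      @henselization_eq_iSup_aux X J x _ _ _ _ hloc hsh U g h.1 u h.2 h.3)
  obtain ⟨T, hT, hTn⟩ := Set.exists_subset_encard_eq hn
  have hfin : T.Finite := Set.finite_of_encard_eq_coe hTn
  obtain ⟨U, g, u, h1, h2, hb, h3⟩ := exists_nbhd_count x (ResidueField (X.presheaf.stalk x)) J
    hfin.toFinset fun P hP => hT (hfin.mem_toFinset.1 hP)
  rw [← Set.encard_coe_eq_coe_finsetCard, hfin.coe_toFinset, hTn] at h3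
  exact h3.trans (le_iSup_of_le U (le_iSup_of_le g (le_iSup_of_le u
    (le_iSup_of_le ⟨h1, h2, hb Function.bijective_id⟩ le_rfl))))

/-- The ideal cutting out the fibre. -/
noncomputable def fibreIdeal {S : Scheme.{u}} (f : X ⟶ S) (y : X) : Ideal (X.presheaf.stalk y) :=
  (maximalIdeal (S.presheaf.stalk (f y))).map (f.stalkMap y).hom

theorem fibreIdeal_comp {U S : Scheme.{u}} (g : U ⟶ X) (f : X ⟶ S) (u : U) :
    fibreIdeal (g ≫ f) u = (fibreIdeal f (g u)).map (g.stalkMap u).hom := by
  rw [fibreIdeal, fibreIdeal, Ideal.map_map]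
  congr 1
  rw [Scheme.Hom.stalkMap_comp]
  rfl

/-- Components of a fibre through a point. -/
theorem fibre_components_encard {S : Scheme.{u}} (f : X ⟶ S) (s : S) (x : X) (hx : f x = s) :
    {Z : Set ↑(f.fiber s) | Z ∈ irreducibleComponents ↑(f.fiber s) ∧ ∃ u' ∈ Z, f.fiberι s u' = x}.encard =
      (fibreIdeal f x).minimalPrimes.encard := by
  obtain ⟨y, hy⟩ : x ∈ Set.range (f.fiberι s) := by rw [f.range_fiberι]; exact hx
  subst hy
  have hset : {Z : Set ↑(f.fiber s) | Z ∈ irreducibleComponents ↑(f.fiber s) ∧
      ∃ u' ∈ Z, f.fiberι s u' = f.fiberι s y} =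
      {Z : Set ↑(f.fiber s) | Z ∈ irreducibleComponents ↑(f.fiber s) ∧ y ∈ Z} := by
    ext Z
    refine and_congr_right fun _ => ⟨?_, fun h => ⟨y, h, rfl⟩⟩
    rintro ⟨u', hu', he⟩
    exact (f.fiberι s).isEmbedding.injective he ▸ hu'
  obtain ⟨hs, hker⟩ := FibCrit.fiberι_stalkMap f s y
  rw [hset, components_encard, fibreIdeal, ← hker, RingHom.ker_eq_comap_bot,
    Ideal.comap_minimalPrimes_eq_of_surjective hs]
  exact ((Ideal.comap_injective_of_surjective _ hs).encard_image _).symm

theorem numGeomBranches_env {T B : Type u} [CommRing T] [IsLocalRing T] [CommRing B] [IsLocalRing B]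
    (φ : T →+* B) (hφ : Function.Surjective φ) : Brnch.numGeomBranches B = shMinimal T (RingHom.ker φ) := by
  rw [shMinimal]
  obtain ⟨hloc, hsh⟩ := Hensel.exists_strictHenselization T
  haveI := hloc
  haveI := hsh
  exact numGeomBranches_of_surjective (Hensel.Env T (SeparableClosure (ResidueField T))) φ hφ

theorem numBranches_env {T B : Type u} [CommRing T] [IsLocalRing T] [CommRing B] [IsLocalRing B]
    (φ : T →+* B) (hφ : Function.Surjective φ) : Brnch.numBranches B = ((RingHom.ker φ).map
      (algebraMap T (Hensel.Env T (ResidueField T)))).minimalPrimes.encard := by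
  obtain ⟨hloc, hsh⟩ := Hensel.exists_henselization T
  haveI := hloc
  haveI := hsh
  exact numBranches_of_surjective (Hensel.Env T (ResidueField T)) φ hφ

/-- Geometric branches of a fibre. -/
theorem fibre_numGeomBranches {S : Scheme.{u}} (f : X ⟶ S) (s : S) (y : ↥(f.fiber s)) (x : X) (hy : f.fiberι s y = x) :
    Brnch.numGeomBranchesAt (f.fiber s) y = shMinimal (X.presheaf.stalk x) (fibreIdeal f x) := by
  subst hy
  obtain ⟨hs, hker⟩ := FibCrit.fiberι_stalkMap f s y
  have hk : fibreIdeal f (f.fiberι s y) = RingHom.ker ((f.fiberι s).stalkMap y).hom := hker.symm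
  rw [hk]
  exact numGeomBranches_env ((f.fiberι s).stalkMap y).hom hs

/-- Geometric branches at a point. -/
theorem numGeomBranches_bot (x : X) : Brnch.numGeomBranchesAt X x = shMinimal (X.presheaf.stalk x) ⊥ := by
  have h := numGeomBranches_env (RingHom.id (X.presheaf.stalk x)) Function.surjective_id
  rwa [show RingHom.ker (RingHom.id (X.presheaf.stalk x)) = ⊥ from
    (RingHom.injective_iff_ker_eq_bot _).mp Function.injective_id] at h

/-- Branches of a fibre. -/
theorem fibre_numBranches {S : Scheme.{u}} (f : X ⟶ S) (s : S) (y : ↥(f.fiber s)) (x : X) (hy : f.fiberι s y = x) :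
    Brnch.numBranchesAt (f.fiber s) y = ((fibreIdeal f x).map (algebraMap (X.presheaf.stalk x)
      (Hensel.Env (X.presheaf.stalk x) (ResidueField (X.presheaf.stalk x))))).minimalPrimes.encard := by
  subst hy
  obtain ⟨hs, hker⟩ := FibCrit.fiberι_stalkMap f s y
  have hk : fibreIdeal f (f.fiberι s y) = RingHom.ker ((f.fiberι s).stalkMap y).hom := hker.symm
  rw [hk]
  exact numBranches_env ((f.fiberι s).stalkMap y).hom hs

end Groth.Agent.BranchSup
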